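import Cfsg.Agent.Lib.Helper50.FCL.Base
import Cfsg.Agent.Lib.Helper66.FrobBasic

set_option autoImplicit false

namespace Cfsg.Agent.Lib.Helper50.FCL

open Finset

/-- [A] A Frobenius complement acts fixed-point-freely on a nontrivial finite elementary abelian
`q`-group, `q ∤ |G|`.
PROOF. import Cfsg.Agent.Lib.Helper66.FrobBasic.  `obtain ⟨L,_,_,H,hH,⟨e⟩⟩ := h`,
`obtain ⟨N, D⟩ := Helper66.exists_frobData H hH` (N = kernel: normal, nilpotent, `D.coprime`, `D.fpf`,
`D.ne_bot`).  q := a prime dividing `Nat.card N`; `D.exists_normal_sylow` gives a normal Sylow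
q-subgroup P ≤ N of L, P ≠ ⊥.  Z := center of P (nontrivial: `IsPGroup.center_nontrivial`), mapped to L: normal in L
(`Cfsg.Agent.Lib.Lead.normal_map_subtype_of_characteristic`, used the same way in `FrobData.fc`, copy from there).
A := {x ∈ Z | x ^ q = 1}: a subgroup (Z commutative), normalised by L, nontrivial (Cauchy in Z:
`exists_prime_orderOf_dvd_card`).  V := ↥A with the CommGroup structure `{ (inferInstance : Group A) with mul_comm := .. }`;
ρ g := conjugation by `(e g : L)` (`MulAut.conjNormal` composed with `H.subtype.comp e.toMonoidHom`, as in `Helper32.FrobSL25.IsFC.exists_fpf`).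
v ^ q = 1 by definition of A; fixed points: `D.fpf`.  Coprime: `D.coprime`, q ∣ card N, card G = card H (`Nat.card_congr e.toEquiv`). -/
theorem exists_fpf_module {G : Type*} [Group G] [Finite G] (h : IsFC G) :
    ∃ (q : ℕ) (V : Type) (_ : CommGroup V) (_ : Finite V) (_ : Nontrivial V) (ρ : G →* MulAut V),
      q.Prime ∧ (Nat.card G).Coprime q ∧ (∀ v : V, v ^ q = 1) ∧
      ∀ g : G, g ≠ 1 → ∀ v : V, ρ g v = v → v = 1 := by
  obtain ⟨L, _, _, H, hH, ⟨e⟩⟩ := h
  obtain ⟨N, D⟩ := Cfsg.Agent.Lib.Helper66.exists_frobData H hH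
  have hN1 : Nat.card N ≠ 1 := fun h => D.ne_bot (Subgroup.card_eq_one.mp h)
  obtain ⟨q, hq, hqd⟩ := Nat.exists_prime_and_dvd hN1
  haveI : Fact q.Prime := ⟨hq⟩
  obtain ⟨P, hPn, hPN, hP0⟩ := D.exists_normal_sylow hqd
  set Z := (Subgroup.center (P : Subgroup L)).map (P : Subgroup L).subtype with hZ
  have hZn : Z.Normal :=
    Cfsg.Agent.Lib.Lead.normal_map_subtype_of_characteristic (P : Subgroup L) (Subgroup.center _)
  have hZP : Z ≤ (P : Subgroup L) := Subgroup.map_subtype_le _
  have hZc : ∀ a ∈ Z, ∀ b ∈ Z, a * b = b * a := by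
    intro a ha b hb
    obtain ⟨z, hz, hza⟩ := ha
    have := Subgroup.mem_center_iff.mp hz ⟨b, hZP hb⟩
    have h2 := congrArg Subtype.val this
    simp only [Subgroup.coe_mul] at h2
    rw [← hza]
    exact h2.symm
  have hZ0 : Z ≠ ⊥ := by
    have : Nontrivial (P : Subgroup L) := (Subgroup.nontrivial_iff_ne_bot _).mpr hP0
    have hnt := P.isPGroup'.center_nontrivial
    intro h
    rw [hZ, Subgroup.map_eq_bot_iff_of_injective _ (Subgroup.subtype_injective _)] at h
    exact (Subgroup.nontrivial_iff_ne_bot _).mp hnt h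
  let A : Subgroup L :=
    { carrier := {x | x ∈ Z ∧ x ^ q = 1}
      mul_mem' := by
        intro a b ha hb
        refine ⟨Z.mul_mem ha.1 hb.1, ?_⟩
        have hc : Commute a b := hZc a ha.1 b hb.1
        rw [hc.mul_pow, ha.2, hb.2, one_mul]
      one_mem' := ⟨Z.one_mem, one_pow _⟩
      inv_mem' := by
        intro a ha
        exact ⟨Z.inv_mem ha.1, by rw [inv_pow, ha.2, inv_one]⟩ }
  have hAn : A.Normal :=
    ⟨fun x hx g => ⟨hZn.conj_mem x hx.1 g, by rw [conj_pow, hx.2, mul_one, mul_inv_cancel]⟩⟩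
  have hA0 : Nontrivial A := by
    have hZp : IsPGroup q Z := P.isPGroup'.to_le hZP
    have hdvd : q ∣ Nat.card Z := by
      rcases hZp.card_eq_or_dvd with h | h
      · exact absurd (Subgroup.card_eq_one.mp h) hZ0
      · exact h
    obtain ⟨x, hx⟩ := exists_prime_orderOf_dvd_card' q hdvd
    have hx1 : (x : L) ^ q = 1 := by
      have : x ^ q = 1 := by rw [← hx]; exact pow_orderOf_eq_one x
      simpa using congrArg Subtype.val this
    refine ⟨⟨⟨x, x.2, hx1⟩, 1, ?_⟩⟩
    intro h
    have h1 : (x : L) = 1 := congrArg Subtype.val h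
    have h2 : x = 1 := Subtype.ext h1
    rw [h2, orderOf_one] at hx
    exact hq.one_lt.ne hx
  let ρ : G →* MulAut A := (MulAut.conjNormal : L →* MulAut A).comp (H.subtype.comp e.toMonoidHom)
  have hfpf : ∀ g : G, g ≠ 1 → ∀ k : A, ρ g k = k → k = 1 := by
    intro g hg k hk
    have h1 : ((e g : H) : L) * k * ((e g : H) : L)⁻¹ = k := by
      have := congrArg Subtype.val hk
      rwa [show ((ρ g k : A) : L) = ((e g : H) : L) * k * ((e g : H) : L)⁻¹ from
        MulAut.conjNormal_apply _ _] at this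
    have h2 : ((e g : H) : L) ≠ 1 := by
      intro h3
      apply hg
      have : e g = 1 := Subtype.ext h3
      exact e.injective (by rw [this, map_one])
    have h3 : Commute (k : L) ((e g : H) : L) := by
      rw [mul_inv_eq_iff_eq_mul] at h1
      exact h1.symm
    exact Subtype.ext (D.fpf (e g).2 h2 (hPN (hZP k.2.1)) h3)
  refine ⟨q, A, { (inferInstance : Group A) with
    mul_comm := fun a b => Subtype.ext (hZc a a.2.1 b b.2.1) }, inferInstance, hA0, ρ, hq, ?_, ?_, hfpf⟩
  · rw [Nat.card_congr e.toEquiv]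
    exact (Nat.Coprime.coprime_dvd_left hqd D.coprime).symm
  · intro v
    exact Subtype.ext v.2.2

end Cfsg.Agent.Lib.Helper50.FCL
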