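import Mathlib
import Cfsg.Prelude.Def_Solvable

/-!
# Frobenius complements: change of characteristic (helper50)

`IsSol w` : `w : G → M` sums to zero over every coset `⟨g⟩ x`, `g` of prime order.
A group `G` has a fixed-point-free module in characteristic `r ∤ |G|` (or `0`) iff there is a
nonzero `w : G → K` with `IsSol w`.  The condition is a system of linear equations with integer
coefficients, which lets one move between characteristics.
-/

set_option autoImplicit false

namespace Cfsg.Agent.Lib.Helper50.FCL

open Finset

/-- `w` sums to zero over every coset `⟨g⟩ x` with `g` of prime order. -/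
def IsSol {G M : Type*} [Group G] [AddCommMonoid M] (w : G → M) : Prop :=
  ∀ g : G, (orderOf g).Prime → ∀ x : G, ∑ i ∈ range (orderOf g), w (g ^ i * x) = 0

theorem IsSol.map {G M M' : Type*} [Group G] [AddCommMonoid M] [AddCommMonoid M'] {w : G → M}
    (h : IsSol w) (f : M →+ M') : IsSol (fun x => f (w x)) := by
  intro g hg x
  rw [← map_sum, h g hg x, map_zero]

/-- `G` occurs as a Frobenius complement (the hypothesis of the rows, verbatim). -/
def IsFC (G : Type*) [Group G] : Prop :=
  ∃ (L : Type) (_ : Group L) (_ : Finite L) (H : Subgroup L),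
    Cfsg.IsFrobeniusComplement H ∧ Nonempty (G ≃* H)

/-- reduction `ℤ/q^(k+1) → ℤ/q`. -/
def red (q k : ℕ) : ZMod (q ^ (k + 1)) →+* ZMod q :=
  ZMod.castHom (dvd_pow_self q (Nat.succ_ne_zero k)) (ZMod q)

/-- reduction `GL_d(ℤ/q^(k+1)) → GL_d(ℤ/q)`. -/
def redGL (q k d : ℕ) : GL (Fin d) (ZMod (q ^ (k + 1))) →* GL (Fin d) (ZMod q) :=
  Matrix.GeneralLinearGroup.map (red q k)

/-- the space of solutions over a field. -/
def solSpace (K G : Type*) [Field K] [Group G] : Submodule K (G → K) where
  carrier := {w | IsSol w}
  add_mem' := by
    intro a b ha hb g hg x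
    simp only [Pi.add_apply, sum_add_distrib]
    rw [ha g hg x, hb g hg x, add_zero]
  zero_mem' := by
    intro g _ x
    simp
  smul_mem' := by
    intro c a ha g hg x
    simp only [Pi.smul_apply, ← smul_sum]
    rw [ha g hg x, smul_zero]

theorem mem_solSpace {K G : Type*} [Field K] [Group G] (w : G → K) :
    w ∈ solSpace K G ↔ IsSol w := Iff.rfl

/-- right translation on the space of solutions: `(h • w) x = w (x * h)`. -/
def solRep (K G : Type*) [Field K] [Group G] : Representation K G (solSpace K G) where
  toFun h :=
    { toFun := fun w => ⟨fun x => w.1 (x * h), fun g hg x => by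
        have := w.2 g hg (x * h)
        simpa [mul_assoc] using this⟩
      map_add' := by intro a b; rfl
      map_smul' := by intro c a; rfl }
  map_one' := by
    ext w x
    simp
  map_mul' := by
    intro a b
    ext w x
    simp [mul_assoc]

@[simp] theorem solRep_apply {K G : Type*} [Field K] [Group G] (h : G) (w : solSpace K G) (x : G) :
    (solRep K G h w).1 x = w.1 (x * h) := rfl

end Cfsg.Agent.Lib.Helper50.FCL
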