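import Cfsg.Agent.Lib.Helper50.FCL.Base
import Cfsg.Agent.Lib.Helper32.FrobSL25
import Cfsg.Agent.Lib.Helper56.FrobComplement

set_option autoImplicit false

namespace Cfsg.Agent.Lib.Helper50.FCL

open Finset

/-- [FWD] factors of a Frobenius complement `A × B`.
PROOF. import Cfsg.Agent.Lib.Helper32.FrobSL25 (its `IsFC` is the same ∃-statement, so `h` has that type by `Iff.rfl`/defeq), import Helper56.FrobComplement.
`IsFC.exists_fpf h` : K finite group, ρ : A × B →* MulAut K injective, fixed-point-free; K is nontrivial (else ρ is trivial, not injective as A is nontrivial).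
Compose with `MonoidHom.inl A B` / `inr`: fixed-point-free actions of A, B; `Helper56.exists_frobenius_of_fpf`.
Coprime: `IsFC.fc h : Helper66.FC (A × B)` (every subgroup of order p*q, p q primes, is cyclic).  If a prime p divides both orders take a ∈ A, b ∈ B of order p (Cauchy);
S := (zpowers a).prod (zpowers b) has order p*p (`Subgroup.card_prod`?/`Nat.card_prod`, `Nat.card_zpowers`), every element has x^p = 1, a cyclic group of order p^2 has an element of order p^2: contradiction
(`IsCyclic.exists_generator`, `orderOf_eq_card_of_forall_mem_zpowers`). `Nat.Coprime` via `Nat.Coprime` iff no common prime (`Nat.coprime_of_dvd`/`Nat.Prime.not_coprime_iff_dvd`). -/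
theorem factors_of_isFC_prod {A B : Type*} [Group A] [Finite A] [Nontrivial A] [Group B] [Finite B]
    [Nontrivial B] (h : IsFC (A × B)) : IsFC A ∧ IsFC B ∧ (Nat.card A).Coprime (Nat.card B) := by
  have h' : Cfsg.Agent.Lib.Helper32.FrobSL25.IsFC (A × B) := h
  obtain ⟨K, _, _, ρ, hinj, hfpf⟩ := h'.exists_fpf
  have hK : Nontrivial K := by
    by_contra hK
    rw [not_nontrivial_iff_subsingleton] at hK
    obtain ⟨a, ha⟩ := exists_ne (1 : A)
    have h1 : ρ (a, 1) = ρ 1 := by
      ext k
      exact Subsingleton.elim _ _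
    have h2 := hinj h1
    exact ha (congrArg Prod.fst h2)
  refine ⟨?_, ?_, ?_⟩
  · exact Cfsg.Agent.Lib.Helper56.exists_frobenius_of_fpf (ρ.comp (MonoidHom.inl A B))
      (fun a ha v hv => hfpf (a, 1) (fun h => ha (congrArg Prod.fst h)) v hv)
  · exact Cfsg.Agent.Lib.Helper56.exists_frobenius_of_fpf (ρ.comp (MonoidHom.inr A B))
      (fun b hb v hv => hfpf (1, b) (fun h => hb (congrArg Prod.snd h)) v hv)
  · have hfc := h'.fc
    by_contra hco
    obtain ⟨p, hp, hpA, hpB⟩ := Nat.Prime.not_coprime_iff_dvd.1 hco
    haveI := Fact.mk hp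
    obtain ⟨a, ha⟩ := exists_prime_orderOf_dvd_card' p hpA
    obtain ⟨b, hb⟩ := exists_prime_orderOf_dvd_card' p hpB
    have hx : orderOf ((a, 1) : A × B) = p := by
      rw [Prod.orderOf]; simp [ha]
    have hy : orderOf ((1, b) : A × B) = p := by
      rw [Prod.orderOf]; simp [hb]
    have hc : Commute ((a, 1) : A × B) (1, b) := by
      show ((a, 1) : A × B) * (1, b) = (1, b) * (a, 1)
      simp
    have h1 := hfc.commute_mem hp hx hy hc
    obtain ⟨k, hk⟩ := Subgroup.mem_zpowers_iff.1 h1
    have h2 : b = 1 := by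
      have := congrArg Prod.snd hk
      simpa using this.symm
    rw [h2, orderOf_one] at hb
    exact hp.one_lt.ne hb

end Cfsg.Agent.Lib.Helper50.FCL
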