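import Cfsg.Agent.Lib.Helper50.FCL.A
import Cfsg.Agent.Lib.Helper50.FCL.GEN
import Cfsg.Agent.Lib.Helper50.FCL.M
import Cfsg.Agent.Lib.Helper50.FCL.SUR
import Cfsg.Agent.Lib.Helper50.FCL.KER
import Cfsg.Agent.Lib.Helper50.FCL.SZ
import Cfsg.Agent.Lib.Helper50.FCL.NILa
import Cfsg.Agent.Lib.Helper50.FCL.NILb
import Cfsg.Agent.Lib.Helper50.FCL.LINa1
import Cfsg.Agent.Lib.Helper50.FCL.LINa2
import Cfsg.Agent.Lib.Helper50.FCL.LINb
import Cfsg.Agent.Lib.Helper50.FCL.FPF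
import Cfsg.Agent.Lib.Helper50.FCL.MIN
import Cfsg.Agent.Lib.Helper50.FCL.MAT
import Cfsg.Agent.Lib.Helper50.FCL.RED
import Cfsg.Agent.Lib.Helper50.FCL.PROD
import Cfsg.Agent.Lib.Helper50.FCL.FROB
import Cfsg.Agent.Lib.Helper50.FCL.FWD

set_option autoImplicit false

namespace Cfsg.Agent.Lib.Helper50.FCL

open Finset

/-- solutions modulo all powers of one prime. -/
theorem exists_sol_mod {G : Type*} [Group G] [Finite G] (h : IsFC G) :
    ∃ q : ℕ, q.Prime ∧ ∀ k : ℕ, ∃ w : G → ZMod (q ^ (k + 1)), IsSol w ∧ w 1 = 1 := by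
  obtain ⟨q, V, _, _, _, ρ, hq, hcop, hexp, hfpf⟩ := exists_fpf_module h
  haveI : Fact q.Prime := ⟨hq⟩
  obtain ⟨d, σ, hd, hσ⟩ := exists_matrix_rep q V ρ hexp hfpf
  refine ⟨q, hq, fun k => ?_⟩
  haveI : NeZero (q ^ (k + 1)) := ⟨pow_ne_zero _ hq.ne_zero⟩
  obtain ⟨τ, hτ⟩ := exists_lift q (redGL q k d) (redGL_surjective q k d) (isPGroup_ker_redGL q k d)
    hcop σ
  have hfpf' : ∀ g : G, g ≠ 1 → ∀ v : Fin d → ZMod q,
      ((redGL q k d (τ g) : GL (Fin d) (ZMod q)) : Matrix (Fin d) (Fin d) (ZMod q)).mulVec v = v →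
        v = 0 := by
    intro g hg v hv
    have : redGL q k d (τ g) = σ g := by rw [← hτ]; rfl
    rw [this] at hv
    exact hσ g hg v hv
  refine ⟨fun x => ((τ x : GL (Fin d) (ZMod (q ^ (k + 1)))) :
    Matrix (Fin d) (Fin d) (ZMod (q ^ (k + 1)))) ⟨0, hd⟩ ⟨0, hd⟩, ?_, ?_⟩
  · intro g hg x
    have h0 := norm_eq_zero q k d hcop τ hfpf' g hg
    have h1 : ∑ i ∈ range (orderOf g),
        ((τ (g ^ i * x) : GL (Fin d) (ZMod (q ^ (k + 1)))) :
          Matrix (Fin d) (Fin d) (ZMod (q ^ (k + 1)))) = 0 := by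
      have : ∀ i, ((τ (g ^ i * x) : GL (Fin d) (ZMod (q ^ (k + 1)))) :
          Matrix (Fin d) (Fin d) (ZMod (q ^ (k + 1)))) =
          ((τ (g ^ i) : GL (Fin d) (ZMod (q ^ (k + 1)))) :
            Matrix (Fin d) (Fin d) (ZMod (q ^ (k + 1)))) *
          ((τ x : GL (Fin d) (ZMod (q ^ (k + 1)))) :
            Matrix (Fin d) (Fin d) (ZMod (q ^ (k + 1)))) := by
        intro i
        rw [map_mul]; rfl
      simp only [this]
      rw [← Finset.sum_mul, h0, zero_mul]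
    have h2 := congrFun (congrFun h1 ⟨0, hd⟩) ⟨0, hd⟩
    rw [Matrix.sum_apply] at h2
    simpa using h2
  · simp

/-- a nonzero integral solution. -/
theorem exists_int_sol {G : Type*} [Group G] [Finite G] (h : IsFC G) :
    ∃ w : G → ℤ, IsSol w ∧ w ≠ 0 := by
  classical
  haveI := Fintype.ofFinite G
  obtain ⟨q, hq, hk⟩ := exists_sol_mod h
  by_contra hcon
  have hrat : ∀ w : G → ℚ, IsSol w → w = 0 := by
    intro w hw
    by_contra h0
    exact hcon (exists_int_of_rat w hw h0)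
  obtain ⟨m, n, hm, hn⟩ := exists_int_combination hrat
  obtain ⟨w, hw, hw1⟩ := hk m.natAbs
  have h1 := int_combination_apply m n hn w hw
  rw [hw1, mul_one] at h1
  rw [ZMod.intCast_zmod_eq_zero_iff_dvd] at h1
  have h2 : q ^ (m.natAbs + 1) ∣ m.natAbs := by
    have := Int.natAbs_dvd_natAbs.mpr h1
    simpa using this
  have h3 : q ^ (m.natAbs + 1) ≤ m.natAbs := Nat.le_of_dvd (Int.natAbs_pos.mpr hm) h2
  have h4 : m.natAbs + 1 < q ^ (m.natAbs + 1) := Nat.lt_pow_self hq.one_lt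
  omega

/-- S3357. -/
theorem s3357 {G : Type*} [Group G] [Finite G] (hFC : IsFC G) :
    ∃ (n : ℕ) (ρ : G →* GL (Fin n) (AlgebraicClosure ℚ)), 0 < n ∧ Function.Injective ρ ∧
      (∀ W : Submodule (AlgebraicClosure ℚ) (Fin n → AlgebraicClosure ℚ),
        (∀ g : G, ∀ w ∈ W, ((ρ g : GL (Fin n) (AlgebraicClosure ℚ)) : Matrix (Fin n) (Fin n) (AlgebraicClosure ℚ)).mulVec w ∈ W) → W = ⊥ ∨ W = ⊤) ∧
      ∀ g : G, g ≠ 1 → ∀ v : Fin n → AlgebraicClosure ℚ,
        ((ρ g : GL (Fin n) (AlgebraicClosure ℚ)) : Matrix (Fin n) (Fin n) (AlgebraicClosure ℚ)).mulVec v = v → v = 0 := by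
  obtain ⟨w, hw, h0⟩ := exists_int_sol hFC
  have hw' : IsSol (fun x => ((w x : ℤ) : AlgebraicClosure ℚ)) :=
    hw.map (Int.castAddHom (AlgebraicClosure ℚ))
  haveI : Nontrivial (solSpace (AlgebraicClosure ℚ) G) := by
    refine ⟨⟨⟨fun x => ((w x : ℤ) : AlgebraicClosure ℚ), (mem_solSpace _).mpr hw'⟩, 0, ?_⟩⟩
    intro h
    apply h0
    funext x
    have := congrFun (congrArg Subtype.val h) x
    simpa using this
  haveI : FiniteDimensional (AlgebraicClosure ℚ) (G → AlgebraicClosure ℚ) := inferInstance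
  exact exists_irreducible_matrix_rep (solRep (AlgebraicClosure ℚ) G)
    (fun g hg u hu => solRep_fpf (fun ℓ hℓ _ => Nat.cast_ne_zero.mpr hℓ.ne_zero) g hg u hu)

/-- S4292. -/
theorem s4292 {A B : Type*} [Group A] [Finite A] [Nontrivial A] [Group B] [Finite B] [Nontrivial B] :
    IsFC (A × B) ↔ (IsFC A ∧ IsFC B ∧ (Nat.card A).Coprime (Nat.card B)) := by
  constructor
  · exact factors_of_isFC_prod
  · rintro ⟨hA, hB, hcop⟩
    obtain ⟨wA, hwA, hA0⟩ := exists_int_sol hA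
    obtain ⟨wB, hwB, hB0⟩ := exists_int_sol hB
    obtain ⟨r, hr, hrA, hrB, ⟨a, ha⟩, ⟨b, hb⟩⟩ := exists_good_prime wA hA0 wB hB0
    haveI : Fact r.Prime := ⟨hr⟩
    have h1 : IsSol (fun x => ((wA x : ℤ) : ZMod r)) := hwA.map (Int.castAddHom (ZMod r))
    have h2 : IsSol (fun x => ((wB x : ℤ) : ZMod r)) := hwB.map (Int.castAddHom (ZMod r))
    refine isFC_of_sol r hr ?_ _ (isSol_prod hcop _ h1 _ h2) ?_
    · rw [Nat.card_prod]
      intro h
      rcases (Nat.Prime.dvd_mul hr).mp h with h | h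
      · exact hrA h
      · exact hrB h
    · intro h
      have := congrFun h (a, b)
      simp only [Pi.zero_apply, mul_eq_zero] at this
      rcases this with h | h
      · exact ha h
      · exact hb h

end Cfsg.Agent.Lib.Helper50.FCL
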